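import Groth.Agent.H4HTPtwise.Basic
import Groth.Agent.H4DR.HT.Kill

/-!
# Iterating pointwise vanishing
-/

set_option autoImplicit false
set_option linter.style.haveILetI false
set_option linter.unusedVariables false

universe u

open CategoryTheory CategoryTheory.Limits Pretriangulated
open Groth.Agent.H4DR
open Groth.Agent.H4DR.HT

attribute [local instance] HasDerivedCategory.standard

namespace Groth.Agent.H4HTPtwise

variable {A : Type u} [CommRing A]

theorem res_hmap {T₁ T₂ : Set (PrimeSpectrum A)} (h : T₁ ⊆ T₂) {W W' : Dual.D A} (g : W ⟶ W') (z : H T₁ W) :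
    res h W' (hmap T₁ g z) = hmap T₂ g (res h W z) := by
  obtain ⟨J, hJ, x, rfl⟩ := exists_rep T₁ z
  rw [hmap_ι, res_ι, res_ι, hmap_ι]

theorem le_iterate {m' : ℕ → ℕ} (hm' : ∀ m, m ≤ m' m) : ∀ (c m : ℕ), m ≤ m'^[c] m
  | 0, m => le_rfl
  | c + 1, m => by rw [Function.iterate_succ_apply']; exact (le_iterate hm' c m).trans (hm' _)

theorem iterate_mono {m' : ℕ → ℕ} (hm' : ∀ m, m ≤ m' m) {a b : ℕ} (h : a ≤ b) (m : ℕ) : m'^[a] m ≤ m'^[b] m := by
  obtain ⟨c, rfl⟩ := Nat.exists_eq_add_of_le h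
  rw [add_comm, Function.iterate_add_apply]
  exact le_iterate hm' c _

variable [IsNoetherianRing A]

/-- Pointwise vanishing, iterated once for each step of a chain, gives vanishing. -/
theorem hmap_eq_zero_iterate {T : Set (PrimeSpectrum A)} {W : ℕ → Dual.D A}
    (g : ∀ k m : ℕ, m ≤ k → (W k ⟶ W m))
    (hg : ∀ (k l m : ℕ) (h₁ : m ≤ l) (h₂ : l ≤ k), g k m (h₁.trans h₂) = g k l h₂ ≫ g l m h₁)
    (m' : ℕ → ℕ) (hm' : ∀ m, m ≤ m' m)
    (hloc : ∀ q ∈ T, ∀ (m k : ℕ) (h : m ≤ k), m' m ≤ k →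
      ∀ y : H (PrimeSpectrum.zeroLocus (q.asIdeal : Set A)) (W k), ∃ s ∉ q.asIdeal, s • hmap _ (g k m h) y = 0) :
    ∀ (c : ℕ) (T' : Set (PrimeSpectrum A)), T' ⊆ T → (∀ q ∈ T', Order.coheight q < (c : ℕ∞)) →
      ∀ (m k : ℕ) (h : m ≤ k), m'^[c] m ≤ k → ∀ x : H T' (W k), hmap T' (g k m h) x = 0 := by
  classical
  intro c
  induction c with
  | zero =>
    intro T' _ hc m k h _ x
    haveI : Subsingleton (H T' (W k)) := subsingleton_of_forall_eq 0 fun x => by
      obtain ⟨K, hK, x, rfl⟩ := exists_rep T' x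
      have hK' : K = ⊤ := by
        by_contra hne
        obtain ⟨q, hq, hle⟩ := Ideal.exists_le_maximal K hne
        have := hc ⟨q, hq.isPrime⟩ (hK hle)
        simp at this
      subst hK'
      rw [@Subsingleton.elim _ (Ext.subsingleton_ex_of_subsingleton (A ⧸ (⊤ : Ideal A)) (W k)) x 0, map_zero]
    rw [Subsingleton.elim x 0, map_zero]
  | succ c ih =>
    intro T' hT' hc m k h hmk x
    have hml : m ≤ m'^[c] m := le_iterate hm' c m
    rw [Function.iterate_succ_apply'] at hmk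
    obtain ⟨l, hl⟩ : ∃ l, l = m'^[c] m := ⟨_, rfl⟩
    rw [← hl] at hmk hml
    have hlk : l ≤ k := (hm' l).trans hmk
    obtain ⟨J₀, hJ₀, x₀, rfl⟩ := exists_rep T' x
    let V := PrimeSpectrum.zeroLocus (J₀ : Set A)
    let x' : H V (W k) := ι V (W k) J₀ subset_rfl x₀
    let W₁ := W k
    -- some element outside the minimal primes of `J₀` kills the image of `x'`
    let 𝔰 : Ideal A := LinearMap.ker (LinearMap.toSpanSingleton A (H V (W l)) (hmap V (g k l hlk) x'))
    have hmem : ∀ s, s ∈ 𝔰 ↔ s • hmap V (g k l hlk) x' = 0 := fun s => LinearMap.mem_ker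
    have hq : ∀ q ∈ J₀.minimalPrimes, ¬ 𝔰 ≤ q := fun q hq hle => by
      haveI := hq.1.1
      let qq : PrimeSpectrum A := ⟨q, hq.1.1⟩
      obtain ⟨s₀, hs₀q, hs₀⟩ : ∃ s₀ ∉ q, Ideal.span {s₀} * q ≤ J₀.radical := by
        let P := ((Ideal.finite_minimalPrimes_of_isNoetherianRing A J₀).toFinset.erase q)
        have hP : ¬ (∏ r ∈ P, r) ≤ q := fun h => by
          obtain ⟨r, hr, hrq⟩ := (Ideal.IsPrime.prod_le hq.1.1).1 h
          obtain ⟨hne, hr'⟩ := Finset.mem_erase.1 hr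
          rw [Set.Finite.mem_toFinset] at hr'
          exact hne (le_antisymm hrq (hq.2 hr'.1 hrq))
        obtain ⟨s₀, hs, hs'⟩ := SetLike.not_le_iff_exists.1 hP
        refine ⟨s₀, hs', ?_⟩
        rw [← Ideal.sInf_minimalPrimes]
        refine le_sInf fun r hr => ?_
        by_cases hrq : r = q
        · subst hrq; exact Ideal.mul_le_right
        · refine Ideal.mul_le_left.trans ((Ideal.span_singleton_le_iff_mem _).2 ?_)
          exact (Ideal.prod_le_inf.trans (Finset.inf_le (f := id)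
            (Finset.mem_erase.2 ⟨hrq, (Set.Finite.mem_toFinset _).2 hr⟩))) hs
      obtain ⟨n, hn⟩ := Ideal.exists_pow_le_of_le_radical_of_fg hs₀ (IsNoetherian.noetherian _)
      rw [mul_pow, Ideal.span_singleton_pow] at hn
      let Vq := PrimeSpectrum.zeroLocus (q : Set A)
      have hVq : Vq ⊆ V := PrimeSpectrum.zeroLocus_anti_mono_ideal hq.1.2
      obtain ⟨E, hE, hinj, ⟨e⟩⟩ := RG.exists_model W₁
      obtain ⟨J₁, hJ₁, z, hk, hd, hz⟩ := exists_el V e x'
      -- a multiple of `x'` lives on `V(q)`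
      obtain ⟨n₁, hn₁⟩ := exists_pow_le J₀ hJ₁
      have hkq : ∀ c ∈ q ^ (n * n₁), c • ((s₀ ^ n) ^ n₁ • z) = 0 := fun c hc => by
        rw [smul_smul, mul_comm]
        refine hk _ (hn₁ ?_)
        have h2 : (Ideal.span {s₀ ^ n} * q ^ n) ^ n₁ ≤ J₀ ^ n₁ := Ideal.pow_right_mono hn n₁
        rw [mul_pow, Ideal.span_singleton_pow, ← pow_mul q n n₁] at h2
        exact h2 (Ideal.mul_mem_mul (Ideal.mem_span_singleton_self _) hc)
      let y : H Vq W₁ := el Vq e _ (zeroLocus_pow_subset Vq subset_rfl (n * n₁)) ((s₀ ^ n) ^ n₁ • z) hkq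
        (by rw [map_smul, hd, smul_zero])
      have hy : res hVq W₁ y = (s₀ ^ n) ^ n₁ • x' := by
        rw [res_el, ← hz, smul_el]
        exact el_eq_of_sub V e _ _ _ _ _ _ _ _ ⊤ (zeroLocus_top_subset V) 0 (fun _ _ => smul_zero _) (by simp)
      obtain ⟨s, hs, hsy⟩ := hloc qq (hT' (hJ₀ hq.1.2)) l k hlk hmk y
      have : s * (s₀ ^ n) ^ n₁ ∈ 𝔰 := (hmem _).2 (by
        rw [mul_smul, ← map_smul (hmap V (g k l hlk)), ← hy, ← res_hmap, ← map_smul, hsy, map_zero])
      rcases hq.1.1.mem_or_mem (hle this) with h | h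
      · exact hs h
      · exact hs₀q (hq.1.1.mem_of_pow_mem _ (hq.1.1.mem_of_pow_mem _ h))
    obtain ⟨s, hs𝔰, hs⟩ : ∃ s ∈ 𝔰, ∀ q ∈ J₀.minimalPrimes, s ∉ q := by
      by_contra hcon
      push Not at hcon
      have hsub : (𝔰 : Set A) ⊆ ⋃ r ∈ ((Ideal.finite_minimalPrimes_of_isNoetherianRing A J₀).toFinset : Set (Ideal A)),
          (r : Set A) := fun s hs => by
        obtain ⟨r, hr, hsr⟩ := hcon s hs
        exact Set.mem_biUnion (by simpa using hr) hsr
      obtain ⟨r, hr, hle⟩ := (Ideal.subset_union_prime ⊥ ⊥ fun r hr _ _ => by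
        rw [Set.Finite.mem_toFinset] at hr; exact hr.1.1).1 hsub
      rw [Set.Finite.mem_toFinset] at hr
      exact hq r hr hle
    obtain ⟨y, hy⟩ := exists_res_of_smul_eq_zero s (hmap V (g k l hlk) x') ((hmem s).1 hs𝔰)
    have hsub' : V ∩ PrimeSpectrum.zeroLocus {s} ⊆ T' := Set.inter_subset_left.trans hJ₀
    have hby : hmap _ (g l m hml) y = 0 := by
      refine ih _ (hsub'.trans hT') (fun r hr => ?_) m l hml hl.ge y
      obtain ⟨r₀, hr₀, hle⟩ := Ideal.exists_minimalPrimes_le (show J₀ ≤ r.asIdeal from hr.1)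
      have hne : r₀ ≠ r.asIdeal := fun h => hs r₀ hr₀ (h ▸ hr.2 rfl)
      let rr : PrimeSpectrum A := ⟨r₀, hr₀.1.1⟩
      have hlt : rr < r := lt_of_le_of_ne hle fun h => hne (congrArg PrimeSpectrum.asIdeal h)
      have h1 : Order.coheight r + 1 ≤ Order.coheight rr := Order.coheight_add_one_le hlt
      have h2 : Order.coheight r + 1 < ((c + 1 : ℕ) : ℕ∞) := h1.trans_lt (hc rr (hJ₀ hr₀.1.2))
      rw [Nat.cast_succ] at h2
      exact (ENat.add_lt_add_iff_right ENat.one_ne_top).1 h2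
    have h3 := congrArg (fun z => res hJ₀ (W m) (hmap V (g l m hml) z)) hy
    simp only [← res_hmap, hby, map_zero] at h3
    rw [hg k l m hml hlk, hmap_comp]
    have h4 : hmap T' (g l m hml) (hmap T' (g k l hlk) (res hJ₀ (W k) x')) = 0 := by
      rw [← res_hmap, ← res_hmap]; exact h3.symm
    rwa [res_ι] at h4

/-- The height above `q` inside a specialisation stable set. -/
theorem coheight_le {T : Set (PrimeSpectrum A)} (hT : StableUnderSpecialization T) {e : ℕ}
    (he : Order.krullDim ↥T ≤ (e : WithBot ℕ∞)) {q : PrimeSpectrum A} (hq : q ∈ T) :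
    Order.coheight q ≤ (e : ℕ∞) := by
  refine Order.coheight_le fun p hp => ?_
  let p' : LTSeries ↥T :=
    { length := p.length
      toFun := fun i => ⟨p i, hT ((PrimeSpectrum.le_iff_specializes _ _).1
        (hp.symm.le.trans (p.head_le i))) hq⟩
      step := fun i => p.step i }
  exact_mod_cast (Order.LTSeries.length_le_krullDim p').trans he

end Groth.Agent.H4HTPtwise
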