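import Groth.Agent.H4HTPtwise.Injective

/-!
# The degree below
-/

set_option autoImplicit false
set_option linter.style.haveILetI false
set_option linter.unusedVariables false

universe u

open CategoryTheory CategoryTheory.Limits Pretriangulated
open Groth.Agent.H4DR
open Groth.Agent.H4DR.HT

attribute [local instance] HasDerivedCategory.standard

namespace Groth.Agent.H4HTPtwise

variable {A : Type u} [CommRing A] [IsNoetherianRing A] {T : Set (PrimeSpectrum A)}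

theorem hmap_shift_neg_one_eq_zero (M : ℕ → Type u) [∀ n, AddCommGroup (M n)] [∀ n, Module A (M n)]
    (φ : ∀ k m : ℕ, m ≤ k → (M k →ₗ[A] M m))
    (hφ : ∀ (k l m : ℕ) (h₁ : m ≤ l) (h₂ : l ≤ k), φ k m (h₁.trans h₂) = φ l m h₁ ∘ₗ φ k l h₂) (i : ℕ)
    (m' : ℕ → ℕ) (hm' : ∀ m, m ≤ m' m)
    (h1 : 0 < i → ∀ (p : PrimeSpectrum A), p ∈ T → ∀ (m k : ℕ) (h : m ≤ k), m' m ≤ k →
      (localCohomology (IsLocalRing.maximalIdeal (Localization.AtPrime p.asIdeal)) (i - 1)).map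
        (ModuleCat.ofHom (LocalizedModule.map p.asIdeal.primeCompl (φ k m h))) = 0)
    (c : ℕ) (T' : Set (PrimeSpectrum A)) (hT' : T' ⊆ T) (hc : ∀ q ∈ T', Order.coheight q < (c : ℕ∞))
    (m k : ℕ) (h : m ≤ k) (hk : m'^[c] m ≤ k) (x : H T' (((Dual.inD A (M k))⟦(i : ℤ)⟧)⟦(-1 : ℤ)⟧)) :
    hmap T' ((shMap (φ k m h) i)⟦(-1 : ℤ)⟧') x = 0 := by
  rcases Nat.eq_zero_or_pos i with rfl | hi
  · haveI : Subsingleton (H T' (((Dual.inD A (M k))⟦((0 : ℕ) : ℤ)⟧)⟦(-1 : ℤ)⟧)) := by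
      refine (hEquiv T' ((shiftFunctorAdd' (Dual.D A) ((0 : ℕ) : ℤ) (-1) (-1) (by simp)).app _).symm).toEquiv.subsingleton_congr.2 ?_
      exact subsingleton_of_pos T' fun j hj =>
        haveI := PCoh.subsingleton_HD_inD (ModuleCat.of A (M k)) ((-1 : ℤ) + j) (by omega)
        (PCoh.hShift (Dual.inD A (M k)) (-1) j (-1 + j) rfl).injective.subsingleton
    rw [Subsingleton.elim x 0, map_zero]
  · let σ := shiftFunctorAdd' (Dual.D A) (i : ℤ) (-1) ((i - 1 : ℕ) : ℤ) (by omega)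
    obtain ⟨z, rfl⟩ := (hEquiv T' (σ.app (Dual.inD A (M k)))).surjective x
    show hmap T' _ (hmap T' (σ.app _).hom z) = 0
    rw [← hmap_comp]
    refine Eq.trans (b := hmap T' (shMap (φ k m h) (i - 1) ≫ (σ.app (Dual.inD A (M m))).hom) z)
      (congrArg (fun f => hmap T' f z)
        (σ.hom.naturality ((DerivedCategory.singleFunctor (ModuleCat.{u} A) 0).map (ModuleCat.ofHom (φ k m h)))).symm) ?_
    rw [hmap_comp, hmap_eq_zero_iterate (W := fun n => (Dual.inD A (M n))⟦((i - 1 : ℕ) : ℤ)⟧)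
      (fun k m h => shMap (φ k m h) (i - 1))
      (fun k l m h₁ h₂ => by rw [hφ k l m h₁ h₂, shMap_comp]) m' hm'
      (fun q hq m k h hk y => exists_smul_hmap_eq_zero_of_map q (φ k m h) (i - 1) (h1 hi q hq m k h hk) y)
      c T' hT' hc m k h hk z, map_zero]

end Groth.Agent.H4HTPtwise
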