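import Groth.Agent.H4DR.HT.Compare
import Groth.Agent.H4DR.HT.Localize
import Groth.Agent.H4DR.HT.FaltingsModule

/-!
# Maps on `H_T` vanishing pointwise
-/

set_option autoImplicit false
set_option linter.style.haveILetI false
set_option linter.unusedVariables false

universe u

open CategoryTheory CategoryTheory.Limits Pretriangulated CategoryTheory.Abelian
open Groth.Agent.H4DR
open Groth.Agent.H4DR.HT
open Groth.Agent.H4DR.FlatBC (F FD toFₗ F_map_toF)
open Groth.Agent.H4DR.Dualizing (Loc loc)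
open Groth.Agent.H4DR.Ext (inM)

attribute [local instance] HasDerivedCategory.standard

namespace Groth.Agent.H4HTPtwise

variable {A : Type u} [CommRing A]

/-- The morphism in `D(A)` of a linear map, shifted by `i`. -/
noncomputable abbrev shMap {M N : Type u} [AddCommGroup M] [Module A M] [AddCommGroup N] [Module A N]
    (f : M →ₗ[A] N) (i : ℕ) : (Dual.inD A M)⟦(i : ℤ)⟧ ⟶ (Dual.inD A N)⟦(i : ℤ)⟧ :=
  ((DerivedCategory.singleFunctor (ModuleCat.{u} A) 0).map (ModuleCat.ofHom f))⟦(i : ℤ)⟧'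

section Natural

variable {M N : Type u} [AddCommGroup M] [Module A M] [AddCommGroup N] [Module A N] (f : M →ₗ[A] N) (i : ℕ)

theorem cmp_natural (T : Set (PrimeSpectrum A)) (x : H T ((Dual.inD A M)⟦(i : ℤ)⟧)) :
    cmp T N i (hmap T (shMap f i) x) =
      ((localCohomology.ofDiagram (Dual2.idealsInDiagram T) i).map (ModuleCat.ofHom f)).hom (cmp T M i x) := by
  obtain ⟨J, h, x, rfl⟩ := exists_rep T x
  rw [hmap_ι, cmp_ι, cmp_ι]
  obtain ⟨y, rfl⟩ := (HT.extHom M i J).surjective x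
  rw [LinearEquiv.symm_apply_apply]
  obtain ⟨z, rfl⟩ := (H4LC.extEquiv (ModuleCat.of A (A ⧸ J)) (ModuleCat.of A M) i).surjective y
  have key : (HT.extHom N i J).symm (HT.extHom M i J (H4LC.extEquiv _ _ i z) ≫ shMap f i) =
      H4LC.extEquiv _ _ i (((((_root_.Ext A (ModuleCat.{u} A) i).obj
        (Opposite.op (ModuleCat.of A (A ⧸ J)))).map (ModuleCat.ofHom f))).hom z) := by
    refine (LinearEquiv.symm_apply_eq _).2 ?_
    rw [H4LC.extEquiv_naturality_right]
    show _ = (Abelian.Ext.comp _ (Abelian.Ext.mk₀ (ModuleCat.ofHom f)) (add_zero i)).hom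
    rw [Abelian.Ext.comp_hom, Abelian.Ext.mk₀_hom, ShiftedHom.comp_mk₀]
    rfl
  rw [key, ιM_extEquiv, ιM_extEquiv]
  exact congrArg (fun a => ModuleCat.Hom.hom a z)
    ((colimit.ι (diag T i) (Opposite.op (HT.mk T J h))).naturality (ModuleCat.ofHom f))

theorem lcInv_natural (I : Ideal A) (x : LD.H I ((Dual.inD A M)⟦(i : ℤ)⟧)) :
    LD.lcInv I N i (LD.hmap I (shMap f i) x) =
      ((localCohomology I i).map (ModuleCat.ofHom f)).hom (LD.lcInv I M i x) := by
  obtain ⟨n, x, rfl⟩ := LD.exists_rep I x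
  rw [LD.hmap_ι, LD.lcInv_ι, LD.lcInv_ι]
  obtain ⟨y, rfl⟩ := (LD.extHom I M i n).surjective x
  rw [LinearEquiv.symm_apply_apply]
  refine Eq.trans ?_ (H4LC.map_ι (H4LC.quotSys I) i (ModuleCat.ofHom f) n y).symm
  refine congrArg _ ((LinearEquiv.symm_apply_eq _).2 ?_)
  show _ = (Abelian.Ext.comp _ (Abelian.Ext.mk₀ (ModuleCat.ofHom f)) (add_zero i)).hom
  rw [Abelian.Ext.comp_hom, Abelian.Ext.mk₀_hom, ShiftedHom.comp_mk₀]
  rfl

/-- A linear map killing `H^i_I` kills `colim Hom(A/I^n, -[i])`. -/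
theorem hmap_eq_zero_of_map (I : Ideal A) (h : (localCohomology I i).map (ModuleCat.ofHom f) = 0)
    (x : LD.H I ((Dual.inD A M)⟦(i : ℤ)⟧)) : LD.hmap I (shMap f i) x = 0 := by
  refine (LD.bijective_lcInv I N i).1 ?_
  rw [lcInv_natural, h, map_zero]
  rfl

end Natural

lemma paste {C : Type*} [Category C] {X X' Y Y' Z Z' : C} {f : X ⟶ X'} {a : X ⟶ Y} {b : X' ⟶ Y'}
    {g : Y ⟶ Y'} {a' : Y ⟶ Z} {b' : Y' ⟶ Z'} {h : Z ⟶ Z'} (hf : f ≫ b = a ≫ g) (hg : g ≫ b' = a' ≫ h) :
    f ≫ (b ≫ b') = (a ≫ a') ≫ h := by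
  rw [← Category.assoc, hf, Category.assoc, hg, Category.assoc]

lemma mapSq {C D : Type*} [Category C] [Category D] (G : C ⥤ D) {X X' Y Y' : C} {f : X ⟶ X'} {a : X ⟶ Y}
    {b : X' ⟶ Y'} {g : Y ⟶ Y'} (h : f ≫ b = a ≫ g) : G.map f ≫ G.map b = G.map a ≫ G.map g := by
  rw [← Functor.map_comp, h, Functor.map_comp]

section Localize

variable (q : PrimeSpectrum A)

local instance : Module.Flat A (Loc q) := IsLocalization.flat (Loc q) q.asIdeal.primeCompl

/-- Base change of a map and the map of localised modules. -/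
theorem equivTensor_natural {M N : Type u} [AddCommGroup M] [Module A M] [AddCommGroup N] [Module A N]
    (f : M →ₗ[A] N) (x : LocalizedModule q.asIdeal.primeCompl M) :
    LocalizedModule.equivTensorProduct q.asIdeal.primeCompl N (LocalizedModule.map q.asIdeal.primeCompl f x) =
      f.lTensor (Loc q) (LocalizedModule.equivTensorProduct q.asIdeal.primeCompl M x) := by
  induction x using LocalizedModule.induction_on with
  | _ m s =>
    rw [LocalizedModule.map_mk, LocalizedModule.equivTensorProduct_apply_mk,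
      LocalizedModule.equivTensorProduct_apply_mk, LinearMap.lTensor_tmul]

theorem F_map_natural {M N : Type u} [AddCommGroup M] [Module A M] [AddCommGroup N] [Module A N] (f : M →ₗ[A] N) :
    (F A (Loc q)).map (ModuleCat.ofHom f) ≫
        ((LocalizedModule.equivTensorProduct q.asIdeal.primeCompl N).trans
          (toFₗ (Loc q) (ModuleCat.of A N))).symm.toModuleIso.hom =
      ((LocalizedModule.equivTensorProduct q.asIdeal.primeCompl M).trans
          (toFₗ (Loc q) (ModuleCat.of A M))).symm.toModuleIso.hom ≫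
        ModuleCat.ofHom (LocalizedModule.map q.asIdeal.primeCompl f) := by
  refine ModuleCat.hom_ext (LinearMap.ext fun z => ?_)
  obtain ⟨x, rfl⟩ := ((LocalizedModule.equivTensorProduct q.asIdeal.primeCompl M).trans
    (toFₗ (Loc q) (ModuleCat.of A M))).surjective z
  show ((LocalizedModule.equivTensorProduct q.asIdeal.primeCompl N).trans (toFₗ (Loc q) (ModuleCat.of A N))).symm
      (((F A (Loc q)).map (ModuleCat.ofHom f)).hom (toFₗ (Loc q) (ModuleCat.of A M)
        (LocalizedModule.equivTensorProduct q.asIdeal.primeCompl M x))) =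
    LocalizedModule.map q.asIdeal.primeCompl f
      (((LocalizedModule.equivTensorProduct q.asIdeal.primeCompl M).trans (toFₗ (Loc q) (ModuleCat.of A M))).symm _)
  rw [LinearEquiv.symm_apply_apply, F_map_toF, LinearEquiv.symm_apply_eq, LinearEquiv.trans_apply,
    equivTensor_natural]
  rfl

/-- The localisation of `M[i]`. -/
noncomputable def locShIso (M : Type u) [AddCommGroup M] [Module A M] (i : ℕ) :
    (FD A (Loc q)).obj ((Dual.inD A M)⟦(i : ℤ)⟧) ≅
      (Dual.inD (Loc q) (LocalizedModule q.asIdeal.primeCompl M))⟦(i : ℤ)⟧ :=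
  ((FD A (Loc q)).commShiftIso (i : ℤ)).app _ ≪≫ (shiftFunctor _ (i : ℤ)).mapIso (locModuleIso M q)

theorem locShIso_natural {M N : Type u} [AddCommGroup M] [Module A M] [AddCommGroup N] [Module A N]
    (f : M →ₗ[A] N) (i : ℕ) :
    (FD A (Loc q)).map (shMap f i) ≫ (locShIso q N i).hom =
      (locShIso q M i).hom ≫ shMap (LocalizedModule.map q.asIdeal.primeCompl f) i :=
  paste (((FD A (Loc q)).commShiftIso (i : ℤ)).hom.naturality
      ((DerivedCategory.singleFunctor (ModuleCat.{u} A) 0).map (ModuleCat.ofHom f)))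
    (mapSq (shiftFunctor (Dual.D (Loc q)) (i : ℤ))
      (paste (((F A (Loc q)).mapDerivedCategorySingleFunctor 0).hom.naturality (ModuleCat.ofHom f))
        (mapSq (DerivedCategory.singleFunctor (ModuleCat.{u} (Loc q)) 0) (F_map_natural q f))))

variable [IsNoetherianRing A]

/-- A morphism killing the local cohomology at the closed point of `A_q` kills `H_{V(q)}` up to elements
outside `q`. -/
theorem exists_smul_hmap_eq_zero {W W' : Dual.D A} {b : ℤ} (hb : ∀ j : ℤ, j < b → Subsingleton (Dual.HD A W' j))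
    (g : W ⟶ W') (h : ∀ z, LD.hmap (IsLocalRing.maximalIdeal (Loc q)) ((FD A (Loc q)).map g) z = 0)
    (y : H (PrimeSpectrum.zeroLocus (q.asIdeal : Set A)) W) : ∃ s ∉ q.asIdeal, s • hmap _ g y = 0 := by
  obtain ⟨J, hJ, x₀, rfl⟩ := HT.exists_rep _ y
  obtain ⟨n, hn⟩ := HT.exists_pow_le q.asIdeal hJ
  rw [← HT.ι_qtr _ W hJ (HT.zeroLocus_pow q.asIdeal n) hn x₀]
  generalize HT.qtr hn ≫ x₀ = x
  have h0 := h (LD.ι _ _ n ((qIso q n).hom ≫ (FD A (Loc q)).map x))
  rw [LD.hmap_ι] at h0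
  obtain ⟨m, hnm, h1⟩ := LD.ι_eq_zero _ h0
  rw [Category.assoc, ← Category.assoc (LD.qtr _ hnm), qtr_qIso q hnm, Category.assoc] at h1
  have h2 : (FD A (Loc q)).map (HT.qtr (Ideal.pow_le_pow_right (I := q.asIdeal) hnm) ≫ (x ≫ g)) = 0 := by
    rw [Functor.map_comp, Functor.map_comp]
    exact (cancel_epi (qIso q m).hom).1 (h1.trans comp_zero.symm)
  obtain ⟨s, hs, h3⟩ := exists_smul_eq_zero_of_tmul q (N := HT.Q (q.asIdeal ^ m) ⟶ W')
    (x := HT.qtr (Ideal.pow_le_pow_right (I := q.asIdeal) hnm) ≫ (x ≫ g))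
    ((FlatBC.bij_module_of_bounded (B := Loc q) hb (A ⧸ q.asIdeal ^ m)).1
      (((FlatBC.β_tmul _ _ _ _).trans ((one_smul _ _).trans h2)).trans (map_zero _).symm))
  refine ⟨s, hs, ?_⟩
  rw [HT.hmap_ι, ← map_smul,
    ← HT.ι_qtr _ W' (HT.zeroLocus_pow q.asIdeal n) (HT.zeroLocus_pow q.asIdeal m) (Ideal.pow_le_pow_right hnm),
    Linear.comp_smul, h3, map_zero]

/-- Linear maps: vanishing on `H^i_{qA_q}` of the localisations. -/
theorem exists_smul_hmap_eq_zero_of_map {M N : Type u} [AddCommGroup M] [Module A M] [AddCommGroup N] [Module A N]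
    (f : M →ₗ[A] N) (i : ℕ)
    (h : (localCohomology (IsLocalRing.maximalIdeal (Localization.AtPrime q.asIdeal)) i).map
      (ModuleCat.ofHom (LocalizedModule.map q.asIdeal.primeCompl f)) = 0)
    (y : H (PrimeSpectrum.zeroLocus (q.asIdeal : Set A)) ((Dual.inD A M)⟦(i : ℤ)⟧)) :
    ∃ s ∉ q.asIdeal, s • hmap _ (shMap f i) y = 0 := by
  refine exists_smul_hmap_eq_zero q (b := -(i : ℤ)) (fun j hj => ?_) _ (fun z => ?_) y
  · haveI := PCoh.subsingleton_HD_inD (ModuleCat.of A N) ((i : ℤ) + j) (by omega)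
    exact (PCoh.hShift (Dual.inD A N) i j (i + j) rfl).injective.subsingleton
  · refine (LD.hEquiv _ (locShIso q N i)).injective ?_
    rw [map_zero]
    show LD.hmap _ (locShIso q N i).hom (LD.hmap _ _ z) = 0
    rw [← LD.hmap_comp, locShIso_natural, LD.hmap_comp]
    exact hmap_eq_zero_of_map _ i _ h _

end Localize

end Groth.Agent.H4HTPtwise

namespace Groth.Agent.H4HTPtwise

open Groth.Agent.H4DR

variable {A : Type u} [CommRing A] [IsNoetherianRing A] (q : PrimeSpectrum A)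

local instance : Module.Flat A (Loc q) := IsLocalization.flat (Loc q) q.asIdeal.primeCompl

/-- A morphism to a bounded below object which vanishes after localisation is killed outside `q`. -/
theorem loc_eq_zero_iff {W : Dual.D A} {b : ℤ} (hb : ∀ j : ℤ, j < b → Subsingleton (Dual.HD A W j)) (n : ℕ)
    (x : HT.Q (q.asIdeal ^ n) ⟶ W) :
    LD.ι (IsLocalRing.maximalIdeal (Loc q)) _ n ((qIso q n).hom ≫ (FD A (Loc q)).map x) = 0 ↔
      ∃ s ∉ q.asIdeal, s • HT.ι (PrimeSpectrum.zeroLocus (q.asIdeal : Set A)) W _ (HT.zeroLocus_pow q.asIdeal n) x = 0 := by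
  refine ⟨fun h0 => ?_, fun ⟨s, hs, h0⟩ => ?_⟩
  · obtain ⟨m, hnm, h1⟩ := LD.ι_eq_zero _ h0
    rw [← Category.assoc, qtr_qIso q hnm, Category.assoc] at h1
    have h2 : (FD A (Loc q)).map (HT.qtr (Ideal.pow_le_pow_right (I := q.asIdeal) hnm) ≫ x) = 0 := by
      rw [Functor.map_comp]
      exact (cancel_epi (qIso q m).hom).1 (h1.trans comp_zero.symm)
    obtain ⟨s, hs, h3⟩ := exists_smul_eq_zero_of_tmul q (N := HT.Q (q.asIdeal ^ m) ⟶ W)
      (x := HT.qtr (Ideal.pow_le_pow_right (I := q.asIdeal) hnm) ≫ x)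
      ((FlatBC.bij_module_of_bounded (B := Loc q) hb (A ⧸ q.asIdeal ^ m)).1
        (((FlatBC.β_tmul _ _ _ _).trans ((one_smul _ _).trans h2)).trans (map_zero _).symm))
    refine ⟨s, hs, ?_⟩
    rw [← map_smul, ← HT.ι_qtr _ W (HT.zeroLocus_pow q.asIdeal n) (HT.zeroLocus_pow q.asIdeal m)
      (Ideal.pow_le_pow_right hnm), Linear.comp_smul, h3, map_zero]
  · rw [← map_smul] at h0
    obtain ⟨J, hle, hJ, h1⟩ := HT.ι_eq_zero _ h0
    obtain ⟨m, hm⟩ := HT.exists_pow_le q.asIdeal hJ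
    have hnm : n ≤ max m n := le_max_right _ _
    have h2 : HT.qtr (Ideal.pow_le_pow_right (I := q.asIdeal) hnm) ≫ (s • x) = 0 := by
      rw [show HT.qtr (Ideal.pow_le_pow_right (I := q.asIdeal) hnm) =
        HT.qtr ((Ideal.pow_le_pow_right (le_max_left m n)).trans hm) ≫ HT.qtr hle from ?_, Category.assoc, h1,
        comp_zero]
      refine Eq.trans ?_ (Functor.map_comp _ _ _)
      exact congrArg _ (ModuleCat.hom_ext (Submodule.linearMap_qext _ (LinearMap.ext_ring rfl)))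
    have h3 := congrArg (FD A (Loc q)).map h2
    rw [Functor.map_comp, Functor.map_zero, FlatBC.FD_map_smul, Linear.comp_smul,
      (IsLocalization.map_units (Loc q) (⟨s, hs⟩ : q.asIdeal.primeCompl)).smul_eq_zero] at h3
    rw [← LD.ι_qtr _ _ hnm, ← Category.assoc, qtr_qIso q hnm, Category.assoc, h3, comp_zero, map_zero]

/-- The class at the closed point of `A_q` of an element of `H_{V(q)}`. -/
theorem exists_local_class {M : Type u} [AddCommGroup M] [Module A M] (i : ℕ)
    (y : HT.H (PrimeSpectrum.zeroLocus (q.asIdeal : Set A)) ((Dual.inD A M)⟦(i : ℤ)⟧)) :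
    ∃ z : (localCohomology (IsLocalRing.maximalIdeal (Localization.AtPrime q.asIdeal)) i).obj
      (ModuleCat.of (Localization.AtPrime q.asIdeal) (LocalizedModule q.asIdeal.primeCompl M)),
      ∀ (N : Type u) [AddCommGroup N] [Module A N] (f : M →ₗ[A] N),
        ((localCohomology (IsLocalRing.maximalIdeal (Localization.AtPrime q.asIdeal)) i).map
          (ModuleCat.ofHom (LocalizedModule.map q.asIdeal.primeCompl f))).hom z = 0 ↔
          ∃ s ∉ q.asIdeal, s • HT.hmap _ (shMap f i) y = 0 := by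
  obtain ⟨J, hJ, x₀, rfl⟩ := HT.exists_rep _ y
  obtain ⟨n, hn⟩ := HT.exists_pow_le q.asIdeal hJ
  rw [← HT.ι_qtr _ _ hJ (HT.zeroLocus_pow q.asIdeal n) hn x₀]
  generalize HT.qtr hn ≫ x₀ = x
  refine ⟨LD.lcInv (IsLocalRing.maximalIdeal (Loc q)) _ i (LD.hmap _ (locShIso q M i).hom
    (LD.ι _ _ n ((qIso q n).hom ≫ (FD A (Loc q)).map x))), fun N _ _ f => ?_⟩
  erw [← lcInv_natural]
  rw [← LD.hmap_comp, ← locShIso_natural, LD.hmap_comp, LD.hmap_ι _ ((FD A (Loc q)).map (shMap f i)), Category.assoc,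
    ← Functor.map_comp, HT.hmap_ι]
  have hb : ∀ j : ℤ, j < -(i : ℤ) → Subsingleton (Dual.HD A ((Dual.inD A N)⟦(i : ℤ)⟧) j) := fun j hj => by
    haveI := PCoh.subsingleton_HD_inD (ModuleCat.of A N) ((i : ℤ) + j) (by omega)
    exact (PCoh.hShift (Dual.inD A N) i j (i + j) rfl).injective.subsingleton
  refine Iff.trans ?_ (loc_eq_zero_iff q hb n (x ≫ shMap f i))
  refine ⟨fun h => (LD.hEquiv _ (locShIso q N i)).injective ((LD.bijective_lcInv _ _ i).1 ?_), fun h => ?_⟩
  · exact h.trans (by rw [map_zero, map_zero])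
  · rw [h, map_zero, map_zero]

end Groth.Agent.H4HTPtwise
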