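import Groth.Agent.H4HTPtwise.Res

/-!
# Iterating pointwise injectivity of images
-/

set_option autoImplicit false
set_option linter.style.haveILetI false
set_option linter.unusedVariables false

universe u

open CategoryTheory CategoryTheory.Limits Pretriangulated
open Groth.Agent.H4DR
open Groth.Agent.H4DR.HT

attribute [local instance] HasDerivedCategory.standard

namespace Groth.Agent.H4HTPtwise

variable {A : Type u} [CommRing A] [IsNoetherianRing A]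

/-- Pointwise injectivity in degree `0` and vanishing in degree `-1` give injectivity. -/
theorem exists_injective_iterate {T : Set (PrimeSpectrum A)} {W : ℕ → Dual.D A}
    (g : ∀ k m : ℕ, m ≤ k → (W k ⟶ W m))
    (hg : ∀ (k l m : ℕ) (h₁ : m ≤ l) (h₂ : l ≤ k), g k m (h₁.trans h₂) = g k l h₂ ≫ g l m h₁)
    (m' : ℕ → ℕ) (hm' : ∀ m, m ≤ m' m)
    (hlow : ∀ (c : ℕ) (T' : Set (PrimeSpectrum A)), T' ⊆ T → (∀ q ∈ T', Order.coheight q < (c : ℕ∞)) →
      ∀ (m k : ℕ) (h : m ≤ k), m'^[c] m ≤ k → ∀ x : H T' ((W k)⟦(-1 : ℤ)⟧), hmap T' ((g k m h)⟦(-1 : ℤ)⟧') x = 0)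
    (hlocinj : ∀ q ∈ T, ∀ (a l k : ℕ) (hal : a ≤ l) (hlk : l ≤ k), m' l ≤ k →
      ∀ y : H (PrimeSpectrum.zeroLocus (q.asIdeal : Set A)) (W k),
        (∃ s ∉ q.asIdeal, s • hmap _ (g k a (hal.trans hlk)) y = 0) →
          ∃ s ∉ q.asIdeal, s • hmap _ (g k l hlk) y = 0) :
    ∀ c : ℕ, ∃ m₀ : ℕ, ∀ m, ∀ hm : m₀ ≤ m, ∃ m'' : ℕ, m ≤ m'' ∧
      ∀ (T' : Set (PrimeSpectrum A)), T' ⊆ T → (∀ q ∈ T', Order.coheight q < (c : ℕ∞)) →
        ∀ (k : ℕ) (h : m ≤ k), m'' ≤ k → ∀ x : H T' (W k),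
          hmap T' (g k m₀ (hm.trans h)) x = 0 → hmap T' (g k m h) x = 0 := by
  classical
  intro c
  induction c with
  | zero =>
    refine ⟨0, fun m hm => ⟨m, le_rfl, fun T' _ hc k h _ x _ => ?_⟩⟩
    haveI : Subsingleton (H T' (W k)) := subsingleton_of_forall_eq 0 fun x => by
      obtain ⟨K, hK, x, rfl⟩ := exists_rep T' x
      have hK' : K = ⊤ := by
        by_contra hne
        obtain ⟨q, hq, hle⟩ := Ideal.exists_le_maximal K hne
        have := hc ⟨q, hq.isPrime⟩ (hK hle)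
        simp at this
      subst hK'
      rw [@Subsingleton.elim _ (Ext.subsingleton_ex_of_subsingleton (A ⧸ (⊤ : Ideal A)) (W k)) x 0, map_zero]
    rw [Subsingleton.elim x 0, map_zero]
  | succ c ih =>
    obtain ⟨b, hbd⟩ := ih
    obtain ⟨top, htop⟩ : ∃ top, top = m'^[c + 1] b := ⟨_, rfl⟩
    have hbt : b ≤ top := htop ▸ le_iterate hm' _ _
    refine ⟨top, fun m hm => ?_⟩
    obtain ⟨m₁, hmm₁, hm₁⟩ := hbd m (hbt.trans hm)
    refine ⟨m' m₁, hmm₁.trans (hm' _), fun T' hT' hc k h hk₁ x hx => ?_⟩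
    have hm₁k : m₁ ≤ k := (hm' _).trans hk₁
    obtain ⟨J₁, hJ₁, x₁, rfl⟩ := exists_rep T' x
    rw [hmap_ι] at hx
    obtain ⟨J₀, hle₀, hJ₀, hx₀⟩ := ι_eq_zero T' hx
    rw [← ι_qtr T' (W k) hJ₁ hJ₀ hle₀]
    rw [← Category.assoc] at hx₀
    generalize qtr hle₀ ≫ x₁ = x₀ at hx₀ ⊢
    let V := PrimeSpectrum.zeroLocus (J₀ : Set A)
    let x' : H V (W k) := ι V (W k) J₀ subset_rfl x₀
    have hx' : hmap V (g k top (hm.trans h)) x' = 0 := by
      show hmap V _ (ι V (W k) J₀ subset_rfl x₀) = 0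
      rw [hmap_ι, hx₀, map_zero]
    let W₁ := W k
    -- some element outside the minimal primes of `J₀` kills the image of `x'`
    let 𝔰 : Ideal A := LinearMap.ker (LinearMap.toSpanSingleton A (H V (W m₁)) (hmap V (g k m₁ hm₁k) x'))
    have hmem : ∀ s, s ∈ 𝔰 ↔ s • hmap V (g k m₁ hm₁k) x' = 0 := fun s => LinearMap.mem_ker
    have hq : ∀ q ∈ J₀.minimalPrimes, ¬ 𝔰 ≤ q := fun q hq hle => by
      haveI := hq.1.1
      let qq : PrimeSpectrum A := ⟨q, hq.1.1⟩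
      obtain ⟨s₀, hs₀q, hs₀⟩ : ∃ s₀ ∉ q, Ideal.span {s₀} * q ≤ J₀.radical := by
        let P := ((Ideal.finite_minimalPrimes_of_isNoetherianRing A J₀).toFinset.erase q)
        have hP : ¬ (∏ r ∈ P, r) ≤ q := fun h => by
          obtain ⟨r, hr, hrq⟩ := (Ideal.IsPrime.prod_le hq.1.1).1 h
          obtain ⟨hne, hr'⟩ := Finset.mem_erase.1 hr
          rw [Set.Finite.mem_toFinset] at hr'
          exact hne (le_antisymm hrq (hq.2 hr'.1 hrq))
        obtain ⟨s₀, hs, hs'⟩ := SetLike.not_le_iff_exists.1 hP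
        refine ⟨s₀, hs', ?_⟩
        rw [← Ideal.sInf_minimalPrimes]
        refine le_sInf fun r hr => ?_
        by_cases hrq : r = q
        · subst hrq; exact Ideal.mul_le_right
        · refine Ideal.mul_le_left.trans ((Ideal.span_singleton_le_iff_mem _).2 ?_)
          exact (Ideal.prod_le_inf.trans (Finset.inf_le (f := id)
            (Finset.mem_erase.2 ⟨hrq, (Set.Finite.mem_toFinset _).2 hr⟩))) hs
      obtain ⟨n, hn⟩ := Ideal.exists_pow_le_of_le_radical_of_fg hs₀ (IsNoetherian.noetherian _)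
      rw [mul_pow, Ideal.span_singleton_pow] at hn
      let Vq := PrimeSpectrum.zeroLocus (q : Set A)
      have hVq : Vq ⊆ V := PrimeSpectrum.zeroLocus_anti_mono_ideal hq.1.2
      obtain ⟨E, hE, hinj, ⟨e⟩⟩ := RG.exists_model W₁
      obtain ⟨J₁, hJ₁, z, hk, hd, hz⟩ := exists_el V e x'
      -- a multiple of `x'` lives on `V(q)`
      obtain ⟨n₁, hn₁⟩ := exists_pow_le J₀ hJ₁
      have hkq : ∀ c ∈ q ^ (n * n₁), c • ((s₀ ^ n) ^ n₁ • z) = 0 := fun c hc => by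
        rw [smul_smul, mul_comm]
        refine hk _ (hn₁ ?_)
        have h2 : (Ideal.span {s₀ ^ n} * q ^ n) ^ n₁ ≤ J₀ ^ n₁ := Ideal.pow_right_mono hn n₁
        rw [mul_pow, Ideal.span_singleton_pow, ← pow_mul q n n₁] at h2
        exact h2 (Ideal.mul_mem_mul (Ideal.mem_span_singleton_self _) hc)
      let y : H Vq W₁ := el Vq e _ (zeroLocus_pow_subset Vq subset_rfl (n * n₁)) ((s₀ ^ n) ^ n₁ • z) hkq
        (by rw [map_smul, hd, smul_zero])
      have hy : res hVq W₁ y = (s₀ ^ n) ^ n₁ • x' := by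
        rw [res_el, ← hz, smul_el]
        exact el_eq_of_sub V e _ _ _ _ _ _ _ _ ⊤ (zeroLocus_top_subset V) 0 (fun _ _ => smul_zero _) (by simp)
      have hyt : ∃ s ∉ q, s • hmap Vq (g k top (hm.trans h)) y = 0 :=
        exists_smul_of_res_minimal hq.1.1 hs₀q hn hVq _ (by rw [res_hmap, hy, map_smul, hx', smul_zero])
      obtain ⟨s, hs, hsy⟩ := hlocinj qq (hT' (hJ₀ hq.1.2)) top m₁ k (hm.trans hmm₁) hm₁k hk₁ y hyt
      have : s * (s₀ ^ n) ^ n₁ ∈ 𝔰 := (hmem _).2 (by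
        rw [mul_smul, ← map_smul (hmap V (g k m₁ hm₁k)), ← hy, ← res_hmap, ← map_smul, hsy, map_zero])
      rcases hq.1.1.mem_or_mem (hle this) with h | h
      · exact hs h
      · exact hs₀q (hq.1.1.mem_of_pow_mem _ (hq.1.1.mem_of_pow_mem _ h))
    obtain ⟨s, hs𝔰, hs⟩ : ∃ s ∈ 𝔰, ∀ q ∈ J₀.minimalPrimes, s ∉ q := by
      by_contra hcon
      push Not at hcon
      have hsub : (𝔰 : Set A) ⊆ ⋃ r ∈ ((Ideal.finite_minimalPrimes_of_isNoetherianRing A J₀).toFinset : Set (Ideal A)),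
          (r : Set A) := fun s hs => by
        obtain ⟨r, hr, hsr⟩ := hcon s hs
        exact Set.mem_biUnion (by simpa using hr) hsr
      obtain ⟨r, hr, hle⟩ := (Ideal.subset_union_prime ⊥ ⊥ fun r hr _ _ => by
        rw [Set.Finite.mem_toFinset] at hr; exact hr.1.1).1 hsub
      rw [Set.Finite.mem_toFinset] at hr
      exact hq r hr hle
    obtain ⟨y, hy⟩ := exists_res_of_smul_eq_zero s (hmap V (g k m₁ hm₁k) x') ((hmem s).1 hs𝔰)
    have hsub' : V ∩ PrimeSpectrum.zeroLocus {s} ⊆ T' := Set.inter_subset_left.trans hJ₀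
    have hyb : hmap (V ∩ PrimeSpectrum.zeroLocus {s}) (g m₁ b (hbt.trans (hm.trans hmm₁))) y = 0 := by
      rw [hg m₁ top b hbt (hm.trans hmm₁), hmap_comp]
      refine hmap_eq_zero_of_res s _ (fun z => ?_) _ ?_
      · exact hlow (c + 1) V (hJ₀.trans hT') (fun q hq => hc q (hJ₀ hq)) b top hbt htop.ge z
      · rw [res_hmap, hy, ← hmap_comp, ← hg k m₁ top (hm.trans hmm₁) hm₁k, hx']
    have hym : hmap _ (g m₁ m hmm₁) y = 0 := by
      refine hm₁ _ (hsub'.trans hT') (fun r hr => ?_) m₁ hmm₁ le_rfl y hyb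
      obtain ⟨r₀, hr₀, hle⟩ := Ideal.exists_minimalPrimes_le (show J₀ ≤ r.asIdeal from hr.1)
      have hne : r₀ ≠ r.asIdeal := fun h => hs r₀ hr₀ (h ▸ hr.2 rfl)
      let rr : PrimeSpectrum A := ⟨r₀, hr₀.1.1⟩
      have hlt : rr < r := lt_of_le_of_ne hle fun h => hne (congrArg PrimeSpectrum.asIdeal h)
      have h1 : Order.coheight r + 1 ≤ Order.coheight rr := Order.coheight_add_one_le hlt
      have h2 : Order.coheight r + 1 < ((c + 1 : ℕ) : ℕ∞) := h1.trans_lt (hc rr (hJ₀ hr₀.1.2))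
      rw [Nat.cast_succ] at h2
      exact (ENat.add_lt_add_iff_right ENat.one_ne_top).1 h2
    have h3 := congrArg (fun z => res hJ₀ (W m) (hmap V (g m₁ m hmm₁) z)) hy
    simp only [← res_hmap, hym, map_zero] at h3
    rw [hg k m₁ m hmm₁ hm₁k, hmap_comp]
    have h4 : hmap T' (g m₁ m hmm₁) (hmap T' (g k m₁ hm₁k) (res hJ₀ (W k) x')) = 0 := by
      rw [← res_hmap, ← res_hmap]; exact h3.symm
    rwa [res_ι] at h4

end Groth.Agent.H4HTPtwise

namespace Groth.Agent.H4HTPtwise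

variable {A : Type u} [CommRing A]

theorem exists_coheight_lt (hA : ringKrullDim A < ⊤) : ∃ c : ℕ, ∀ q : PrimeSpectrum A, Order.coheight q < (c : ℕ∞) := by
  by_cases h : IsEmpty (PrimeSpectrum A)
  · exact ⟨0, fun q => (h.false q).elim⟩
  haveI := not_isEmpty_iff.1 h
  have hne : ringKrullDim A ≠ ⊥ := by
    rw [ringKrullDim, Order.krullDim_eq_iSup_coheight_of_nonempty]; exact WithBot.coe_ne_bot
  obtain ⟨d, hd⟩ := WithBot.ne_bot_iff_exists.1 hne
  have hdt : d ≠ ⊤ := fun h' => hA.ne (hd ▸ h' ▸ rfl)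
  obtain ⟨n, rfl⟩ := ENat.ne_top_iff_exists.1 hdt
  refine ⟨n + 1, fun q => lt_of_le_of_lt (b := (n : ℕ∞)) ?_ (by exact_mod_cast Nat.lt_succ_self n)⟩
  exact WithBot.coe_le_coe.1 ((Order.coheight_le_krullDim q).trans hd.ge)

theorem shMap_comp {L M N : Type u} [AddCommGroup L] [Module A L] [AddCommGroup M] [Module A M] [AddCommGroup N]
    [Module A N] (f : L →ₗ[A] M) (g : M →ₗ[A] N) (i : ℕ) : shMap (g ∘ₗ f) i = shMap f i ≫ shMap g i := by
  simp only [shMap, ModuleCat.ofHom_comp, Functor.map_comp]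

end Groth.Agent.H4HTPtwise
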