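import Groth.Agent.H4HTPtwise.Iterate

/-!
# The kernel of enlarging the support, with a morphism
-/

set_option autoImplicit false
set_option linter.style.haveILetI false
set_option linter.unusedVariables false

universe u

open CategoryTheory CategoryTheory.Limits Pretriangulated
open Groth.Agent.H4DR
open Groth.Agent.H4DR.HT

attribute [local instance] HasDerivedCategory.standard

namespace Groth.Agent.H4HTPtwise

variable {A : Type u} [CommRing A]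

/-- A morphism as a chain map of models. -/
theorem hmap_el {T : Set (PrimeSpectrum A)} {E E' : DRing.Cx A} {W W' : Dual.D A} (e : DRing.toD E ≅ W)
    (e' : DRing.toD E' ≅ W') (γ : E ⟶ E') (g : W ⟶ W') (hγ : e.hom ≫ g = DerivedCategory.Q.map γ ≫ e'.hom)
    (J : Ideal A) (hJ : PrimeSpectrum.zeroLocus (J : Set A) ⊆ T) (z : E.X 0) (hk : ∀ a ∈ J, a • z = 0)
    (hd : (E.d 0 (0 + 1)).hom z = 0) :
    hmap T g (el T e J hJ z hk hd) = el T e' J hJ ((γ.f 0).hom z)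
      (fun a ha => by rw [← map_smul, hk a ha, map_zero])
      (by
        show (γ.f 0 ≫ E'.d 0 (0 + 1)).hom z = 0
        rw [γ.comm]
        show (γ.f (0 + 1)).hom ((E.d 0 (0 + 1)).hom z) = 0
        rw [hd, map_zero]) := by
  rw [el, el, hmap_ι]
  refine congrArg _ ((Category.assoc _ _ _).trans ((congrArg (_ ≫ ·) hγ).trans
    ((Category.assoc _ _ _).symm.trans (congrArg (· ≫ e'.hom) ?_))))
  refine (Functor.map_comp DerivedCategory.Q (gOf J z hk hd) γ).symm.trans (congrArg _ (sgl_hom_ext ?_))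
  rw [gOf_u1, HomologicalComplex.comp_f, ModuleCat.comp_apply, gOf_u1]

variable [IsNoetherianRing A]

/-- Up to elements outside `q`, nothing is lost from `V(q)` to `V(J₀)` for `q` minimal over `J₀`. -/
theorem exists_smul_of_res_minimal {W : Dual.D A} {J₀ q : Ideal A} {s₀ : A} {n : ℕ} (hq : q.IsPrime) (hs₀q : s₀ ∉ q)
    (hn : Ideal.span {s₀ ^ n} * q ^ n ≤ J₀)
    (hVq : PrimeSpectrum.zeroLocus (q : Set A) ⊆ PrimeSpectrum.zeroLocus (J₀ : Set A))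
    (y : H (PrimeSpectrum.zeroLocus (q : Set A)) W) (hy : res hVq W y = 0) : ∃ s ∉ q, s • y = 0 := by
  obtain ⟨E, hE, hinj, ⟨e⟩⟩ := RG.exists_model W
  obtain ⟨J, hJ, z, hk, hd, rfl⟩ := exists_el _ e y
  rw [res_el] at hy
  obtain ⟨K, w, hK, hw, hdw⟩ := exists_of_el_eq_zero _ e hy
  obtain ⟨n₁, hn₁⟩ := HT.exists_pow_le J₀ hK
  refine ⟨(s₀ ^ n) ^ n₁, fun h => hs₀q (hq.mem_of_pow_mem _ (hq.mem_of_pow_mem _ h)), ?_⟩
  rw [smul_el]
  refine el_d_eq_zero _ e hJ _ _ _ (q ^ (n * n₁)) (HT.zeroLocus_pow q _) ((s₀ ^ n) ^ n₁ • w) (fun c hc => ?_)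
    (by rw [map_smul, hdw])
  rw [smul_smul, mul_comm]
  refine hw _ (hn₁ ?_)
  have h2 : (Ideal.span {s₀ ^ n} * q ^ n) ^ n₁ ≤ J₀ ^ n₁ := Ideal.pow_right_mono hn n₁
  rw [mul_pow, Ideal.span_singleton_pow, ← pow_mul q n n₁] at h2
  exact h2 (Ideal.mul_mem_mul (Ideal.mem_span_singleton_self _) hc)

/-- The kernel of `res` is killed by what kills the degree below. -/
theorem hmap_eq_zero_of_res {T : Set (PrimeSpectrum A)} {W W' : Dual.D A} (s : A) (g : W ⟶ W')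
    (hg : ∀ y : H T (W⟦(-1 : ℤ)⟧), hmap T (g⟦(-1 : ℤ)⟧') y = 0) (x : H (T ∩ PrimeSpectrum.zeroLocus {s}) W)
    (hx : res Set.inter_subset_left W x = 0) : hmap _ g x = 0 := by
  obtain ⟨E, hE, hinj, ⟨e⟩⟩ := RG.exists_model W
  obtain ⟨E', hE', hinj', ⟨e'⟩⟩ := RG.exists_model W'
  obtain ⟨γ, hγ⟩ := DComplete.exists_Q_map_eq (P := E) (J := E') (e.hom ≫ g ≫ e'.inv)
  have hγ' : e.hom ≫ g = DerivedCategory.Q.map γ ≫ e'.hom := by
    refine ((congrArg (· ≫ e'.hom) hγ).trans ?_).symm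
    exact ((Category.assoc _ _ _).trans (congrArg (e.hom ≫ ·) ((Category.assoc _ _ _).trans
      ((congrArg (g ≫ ·) e'.inv_hom_id).trans (Category.comp_id _)))))
  obtain ⟨J, hJ, z, hk, hd, rfl⟩ := exists_el _ e x
  rw [res_el] at hx
  obtain ⟨K, w, hK, hw, hdw⟩ := exists_of_el_eq_zero T e hx
  obtain ⟨n, hn⟩ : ∃ n, s ^ n ∈ J := by
    have h1 : PrimeSpectrum.zeroLocus (J : Set A) ⊆ PrimeSpectrum.zeroLocus ((Ideal.span {s} : Ideal A) : Set A) := by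
      rw [PrimeSpectrum.zeroLocus_span]; exact fun q hq => (hJ hq).2
    exact (PrimeSpectrum.zeroLocus_subset_zeroLocus_iff J (Ideal.span {s})).1 h1 (Ideal.mem_span_singleton_self s)
  let F : DRing.Cx A := E⟦(-1 : ℤ)⟧
  let F' : DRing.Cx A := E'⟦(-1 : ℤ)⟧
  let c : DRing.toD F ≅ W⟦(-1 : ℤ)⟧ :=
    (DerivedCategory.Q.commShiftIso (-1 : ℤ)).app E ≪≫ (shiftFunctor (Dual.D A) (-1 : ℤ)).mapIso e
  let c' : DRing.toD F' ≅ W'⟦(-1 : ℤ)⟧ :=
    (DerivedCategory.Q.commShiftIso (-1 : ℤ)).app E' ≪≫ (shiftFunctor (Dual.D A) (-1 : ℤ)).mapIso e'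
  have hc : c.hom ≫ g⟦(-1 : ℤ)⟧' = DerivedCategory.Q.map (γ⟦(-1 : ℤ)⟧') ≫ c'.hom :=
    (paste ((DerivedCategory.Q.commShiftIso (-1 : ℤ)).hom.naturality γ)
      (mapSq (shiftFunctor (Dual.D A) (-1 : ℤ)) hγ'.symm)).symm
  let w' : F.X 0 := s ^ n • w
  have hd0 : (E.d (0 - 1) 0).hom (s ^ n • w) = 0 := by rw [map_smul, hdw, hk _ hn]
  have hdw' : (F.d 0 (0 + 1)).hom w' = 0 := by
    refine (shift_neg_one_d_apply E 0 (0 + 1) (s ^ n • w)).trans ?_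
    show -((E.d (0 - 1) 0).hom (s ^ n • w)) = 0
    rw [hd0, neg_zero]
  have hkw' : ∀ a ∈ K, a • w' = 0 := fun a ha => by
    show a • s ^ n • w = (0 : E.X (0 - 1))
    rw [smul_comm, hw a ha, smul_zero]
  haveI : CochainComplex.IsKInjective F' := inferInstance
  have hzero := hg (el T c K hK w' hkw' hdw')
  rw [hmap_el c c' (γ⟦(-1 : ℤ)⟧') _ hc] at hzero
  obtain ⟨K', v, hK', hv, hdv⟩ := exists_of_el_eq_zero T c' hzero
  let v₀ : E'.X (0 - 1 - 1) := v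
  let w₁ : E'.X (0 - 1) := (γ.f (0 - 1)).hom w
  have hdv₀ : -(E'.d (0 - 1 - 1) (0 - 1)).hom v₀ = s ^ n • w₁ := by
    refine ((shift_neg_one_d_apply E' (0 - 1) 0 v).symm.trans hdv).trans ?_
    show (γ.f (0 - 1)).hom (s ^ n • w) = s ^ n • w₁
    rw [map_smul]
  haveI := H4LC.injective_torsionSub K' (E'.X (0 - 1 - 1)) (hinj' _)
  obtain ⟨y, k, hy⟩ := H4LC.exists_sub_smul_mem_torsionSub (s ^ n)
    (⟨v₀, 1, fun a ha => hv a ((pow_one K').le ha)⟩ : DRing.torsionSub K' (E'.X (0 - 1 - 1)))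
  obtain ⟨⟨y, m, hym⟩, rfl⟩ : ∃ y' : DRing.torsionSub K' (E'.X (0 - 1 - 1)), y' = y := ⟨y, rfl⟩
  replace hy : (s ^ n) ^ k • (s ^ n • y - v₀) = 0 :=
    congrArg Subtype.val (hy ((s ^ n) ^ k) (Ideal.pow_mem_pow (Ideal.mem_span_singleton_self _) k))
  let u := w₁ + (E'.d (0 - 1 - 1) (0 - 1)).hom y
  have hus : s ^ (n * (k + 1)) • u = 0 := by
    have h1 : (E'.d (0 - 1 - 1) (0 - 1)).hom ((s ^ n) ^ k • (s ^ n • y - v₀)) = 0 := by rw [hy, map_zero]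
    rw [map_smul (E'.d (0 - 1 - 1) (0 - 1)).hom, map_sub, map_smul, neg_eq_iff_eq_neg.1 hdv₀, sub_neg_eq_add] at h1
    rw [pow_mul, pow_succ, mul_smul, show s ^ n • u = s ^ n • (E'.d (0 - 1 - 1) (0 - 1)).hom y + s ^ n • w₁ by
      rw [smul_add, add_comm]]
    exact h1
  have hKK : PrimeSpectrum.zeroLocus ((K * K' ^ m : Ideal A) : Set A) ⊆ T :=
    zeroLocus_mul_subset T hK (zeroLocus_pow_subset T hK' m)
  have hku : ∀ a ∈ (K * K' ^ m) ^ 1, a • u = 0 := fun a ha => by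
    rw [pow_one] at ha
    rw [smul_add, ← map_smul, hw a (Ideal.mul_le_left (I := K) (J := K' ^ m) ha), map_zero, zero_add, ← map_smul,
      hym a (Ideal.mul_le_right (I := K) (J := K' ^ m) ha), map_zero]
  rw [hmap_el e e' γ g hγ']
  refine el_d_eq_zero _ e' hJ _ _ _ _ (zeroLocus_sup_span_subset hKK s (n * (k + 1)) 1) u (kill_sup hus hku) ?_
  have hcomm : (E'.d (0 - 1) 0).hom w₁ = (γ.f 0).hom z := by
    rw [← hdw]
    exact congr($(γ.comm (0 - 1) 0).hom w)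
  rw [map_add, hcomm]
  show (γ.f 0).hom z + (E'.d (0 - 1 - 1) (0 - 1) ≫ E'.d (0 - 1) 0).hom y = (γ.f 0).hom z
  rw [E'.d_comp_d]
  simp

end Groth.Agent.H4HTPtwise
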